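import Groth.Prelude.Def_W4c6katofiltaWFil
import Mathlib.RingTheory.WittVector.Frobenius
import Mathlib.RingTheory.WittVector.Identities
import Mathlib.RingTheory.IntegralClosure.IntegrallyClosed
import Mathlib.RingTheory.UniqueFactorizationDomain.GCDMonoid
import Mathlib.RingTheory.Polynomial.RationalRoot
import Mathlib.FieldTheory.IsAlgClosed.AlgebraicClosure
import Mathlib.RingTheory.Localization.FractionRing
import Mathlib.Algebra.CharP.Algebra

/-!
Filtered pieces of truncated Witt vectors: twisting by a root of the cut-out element turns them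
into Witt vectors with integral coordinates.
-/

namespace Groth.L14.WittFil

variable {p : ℕ} [hp : Fact p.Prime]

theorem coeff_teichmuller_mul {R : Type*} [CommRing R] [CharP R p] (X : WittVector p R) (c : R)
    (i : ℕ) : (WittVector.teichmuller p c * X).coeff i = c ^ p ^ i * X.coeff i := by
  rw [mul_comm]
  induction i generalizing X c with
  | zero =>
    rw [WittVector.mul_coeff_zero, WittVector.teichmuller_coeff_zero, pow_zero, pow_one, mul_comm]
  | succ i ih =>
    let Y : WittVector p R := WittVector.mk p fun n => X.coeff (n + 1)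
    have hdis : ∀ (a : R) (Z : WittVector p R) (n : ℕ),
        (WittVector.teichmuller p a).coeff n = 0 ∨ (WittVector.verschiebung Z).coeff n = 0 := by
      intro a Z n
      rcases n with _ | n
      · exact Or.inr (WittVector.verschiebung_coeff_zero Z)
      · exact Or.inl (WittVector.teichmuller_coeff_pos p a _ n.succ_pos)
    have hX : X = WittVector.teichmuller p (X.coeff 0) + WittVector.verschiebung Y := by
      refine WittVector.ext fun n => ?_
      rw [WittVector.coeff_add_of_disjoint n _ _ (hdis _ _)]
      rcases n with _ | n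
      · rw [WittVector.teichmuller_coeff_zero, WittVector.verschiebung_coeff_zero, add_zero]
      · rw [WittVector.teichmuller_coeff_pos p _ _ n.succ_pos, WittVector.verschiebung_coeff_succ,
          zero_add]
        rfl
    have hF : WittVector.frobenius (WittVector.teichmuller p c) = WittVector.teichmuller p (c ^ p) := by
      refine WittVector.ext fun n => ?_
      rw [WittVector.coeff_frobenius_charP]
      rcases n with _ | n
      · rw [WittVector.teichmuller_coeff_zero, WittVector.teichmuller_coeff_zero]
      · rw [WittVector.teichmuller_coeff_pos p _ _ n.succ_pos,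
          WittVector.teichmuller_coeff_pos p _ _ n.succ_pos, zero_pow hp.out.ne_zero]
    conv_lhs => rw [hX, add_mul, ← map_mul, ← WittVector.verschiebung_mul_frobenius, hF]
    rw [WittVector.coeff_add_of_disjoint _ _ _ (hdis _ _),
      WittVector.teichmuller_coeff_pos p _ _ i.succ_pos, WittVector.verschiebung_coeff_succ,
      zero_add, ih, pow_succ', pow_mul]
    rfl

variable {A B L : Type*} [CommRing A] [CommRing B] [Algebra A B] [Field L] [Algebra A L] [CharP L p]
  (φ : B →ₐ[A] L)

/-- Membership in terms of a root `d` of the cut-out element. -/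
theorem mem_fil_iff (hint : ∀ b : B, IsIntegral A (φ b) ↔ b ∈ (algebraMap A B).range) {m : ℕ} {c : B} {d : L}
    (hd : d ^ p ^ (m - 1) = φ c) (y : TruncatedWittVector p m B) :
    y ∈ WittFil.fil p m (A := A) c ↔ ∀ j : Fin m, IsIntegral A (d ^ p ^ (j : ℕ) * φ (y.coeff j)) := by
  have key : ∀ j : Fin m, φ (y.coeff j ^ p ^ (m - 1 - (j : ℕ)) * c) =
      (d ^ p ^ (j : ℕ) * φ (y.coeff j)) ^ p ^ (m - 1 - (j : ℕ)) := by
    intro j
    have hj : (j : ℕ) + (m - 1 - (j : ℕ)) = m - 1 := by have := j.2; omega
    rw [map_mul, map_pow, mul_pow, ← pow_mul, ← pow_add, hj, hd, mul_comm]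
  refine forall_congr' fun j => ?_
  rw [← hint, key]
  exact ⟨fun h => h.of_pow (pow_pos hp.out.pos _), fun h => h.pow _⟩

/-- The twisted vector with integral coordinates. -/
noncomputable def twist (hint : ∀ b : B, IsIntegral A (φ b) ↔ b ∈ (algebraMap A B).range) {m : ℕ} {c : B} {d : L}
    (hd : d ^ p ^ (m - 1) = φ c) {y : TruncatedWittVector p m B} (hy : y ∈ WittFil.fil p m (A := A) c) :
    WittVector p (integralClosure A L) :=
  WittVector.mk p fun j => if h : j < m then ⟨d ^ p ^ j * φ (y.coeff ⟨j, h⟩), (mem_fil_iff φ hint hd y).mp hy ⟨j, h⟩⟩ else 0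

theorem map_twist (hint : ∀ b : B, IsIntegral A (φ b) ↔ b ∈ (algebraMap A B).range) {m : ℕ} {c : B} {d : L}
    (hd : d ^ p ^ (m - 1) = φ c) {y : TruncatedWittVector p m B} (hy : y ∈ WittFil.fil p m (A := A) c) :
    WittVector.map ((integralClosure A L).val : integralClosure A L →+* L) (twist φ hint hd hy) =
      WittVector.teichmuller p d * WittVector.map (φ : B →+* L) y.out := by
  ext j
  rw [coeff_teichmuller_mul, WittVector.map_coeff, WittVector.map_coeff]
  by_cases h : j < m
  · simp [twist, h, TruncatedWittVector.out]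
  · simp [twist, h, TruncatedWittVector.out]

theorem mem_fil_of_map (hint : ∀ b : B, IsIntegral A (φ b) ↔ b ∈ (algebraMap A B).range) {m : ℕ} {c : B} {d : L}
    (hd : d ^ p ^ (m - 1) = φ c) {Y : WittVector p B} (Z : WittVector p (integralClosure A L))
    (h : WittVector.map ((integralClosure A L).val : integralClosure A L →+* L) Z =
      WittVector.teichmuller p d * WittVector.map (φ : B →+* L) Y) :
    WittVector.truncateFun m Y ∈ WittFil.fil p m (A := A) c := by
  rw [mem_fil_iff φ hint hd]
  intro j
  have := congrArg (fun W => WittVector.coeff W (j : ℕ)) h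
  simp only [coeff_teichmuller_mul, WittVector.map_coeff] at this
  rw [WittVector.coeff_truncateFun, show φ (Y.coeff (j : ℕ)) = (φ : B →+* L) (Y.coeff (j : ℕ)) from rfl, ← this]
  exact (Z.coeff (j : ℕ)).2

theorem sub_mem (hint : ∀ b : B, IsIntegral A (φ b) ↔ b ∈ (algebraMap A B).range) [IsAlgClosed L] {m : ℕ} {c : B}
    {a b : TruncatedWittVector p m B} (ha : a ∈ WittFil.fil p m (A := A) c) (hb : b ∈ WittFil.fil p m (A := A) c) :
    a - b ∈ WittFil.fil p m (A := A) c := by
  obtain ⟨d, hd⟩ := IsAlgClosed.exists_pow_nat_eq (φ c) (pow_pos hp.out.pos (m - 1))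
  refine mem_fil_of_map φ hint hd (twist φ hint hd ha - twist φ hint hd hb) ?_
  rw [map_sub, map_sub, map_twist, map_twist, mul_sub]

theorem mul_mem (hint : ∀ b : B, IsIntegral A (φ b) ↔ b ∈ (algebraMap A B).range) [IsAlgClosed L] {m : ℕ} {c c' : B}
    {a b : TruncatedWittVector p m B} (ha : a ∈ WittFil.fil p m (A := A) c) (hb : b ∈ WittFil.fil p m (A := A) c') :
    a * b ∈ WittFil.fil p m (A := A) (c * c') := by
  obtain ⟨d, hd⟩ := IsAlgClosed.exists_pow_nat_eq (φ c) (pow_pos hp.out.pos (m - 1))
  obtain ⟨d', hd'⟩ := IsAlgClosed.exists_pow_nat_eq (φ c') (pow_pos hp.out.pos (m - 1))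
  refine mem_fil_of_map φ hint (d := d * d') (by rw [mul_pow, hd, hd', map_mul])
    (twist φ hint hd ha * twist φ hint hd' hb) ?_
  rw [map_mul, map_twist, map_twist, map_mul, map_mul]
  ring

omit hp in
/-- An algebraically closed field receiving a localization and detecting integrality. -/
theorem exists_embedding (p : ℕ) {A B : Type*} [CommRing A] [IsDomain A] [IsIntegrallyClosed A] [CharP A p]
    [CommRing B] [Algebra A B] {M : Submonoid A} (hM : M ≤ nonZeroDivisors A) [IsLocalization M B] :
    CharP (AlgebraicClosure (FractionRing A)) p ∧ ∃ φ : B →ₐ[A] AlgebraicClosure (FractionRing A),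
      ∀ b : B, IsIntegral A (φ b) ↔ b ∈ (algebraMap A B).range := by
  let K := FractionRing A
  have : CharP K p := charP_of_injective_algebraMap (IsFractionRing.injective A K) p
  refine ⟨charP_of_injective_algebraMap (algebraMap K (AlgebraicClosure K)).injective p, ?_⟩
  let ψ : B →ₐ[A] K := IsLocalization.liftAlgHom (M := M) (f := Algebra.ofId A K) fun y =>
    IsUnit.mk0 _ fun e => nonZeroDivisors.ne_zero (hM y.2) (IsFractionRing.injective A K (by
      rw [map_zero]; exact e))
  let := (ψ : B →+* K).toAlgebra
  have : IsScalarTower A B K := IsScalarTower.of_algebraMap_eq' ψ.comp_algebraMap.symm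
  have : IsFractionRing B K := IsFractionRing.isFractionRing_of_isDomain_of_isLocalization M B K
  refine ⟨(IsScalarTower.toAlgHom A K (AlgebraicClosure K)).comp ψ, fun b => ?_⟩
  simp only [AlgHom.comp_apply, IsScalarTower.coe_toAlgHom']
  rw [isIntegral_algebraMap_iff (algebraMap K (AlgebraicClosure K)).injective, IsIntegrallyClosed.isIntegral_iff]
  refine ⟨fun ⟨a, ha⟩ => ⟨a, IsFractionRing.injective B K ?_⟩, fun ⟨a, ha⟩ => ⟨a, ?_⟩⟩
  · rw [← IsScalarTower.algebraMap_apply]; exact ha
  · rw [← ha, AlgHom.commutes]

end Groth.L14.WittFil
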