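import Groth.Agent.L14.WittFil.Basic
import Mathlib.Algebra.BigOperators.Associated
import Mathlib.RingTheory.Localization.Away.Basic

/-!
Divisibility by the product of the primes, and Laurent monomials in the associated units.
-/

namespace Groth.L14.WittFil

variable {A B : Type*} [CommRing A] [CommRing B] [Algebra A B] {r : ℕ}

theorem zmon_mul (u : Fin r → Bˣ) (n n' : Fin r → ℤ) :
    WittFil.zmon u n * WittFil.zmon u n' = WittFil.zmon u (fun i => n i + n' i) := by
  simp only [WittFil.zmon, ← Units.val_mul, ← Finset.prod_mul_distrib, zpow_add]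

theorem zmon_pow (u : Fin r → Bˣ) (n : Fin r → ℤ) (P : ℕ) :
    WittFil.zmon u n ^ P = WittFil.zmon u (fun i => n i * P) := by
  simp only [WittFil.zmon, ← Units.val_pow_eq_pow_val, ← Finset.prod_pow, zpow_mul, zpow_natCast]

theorem zmon_zero (u : Fin r → Bˣ) : WittFil.zmon u (fun _ => (0 : ℤ)) = 1 := by
  simp [WittFil.zmon]

theorem zmon_natCast (x : Fin r → A) (u : Fin r → Bˣ) (hu : ∀ i, (u i : B) = algebraMap A B (x i))
    (k : Fin r → ℕ) : WittFil.zmon u (fun i => (k i : ℤ)) = algebraMap A B (∏ i, x i ^ k i) := by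
  simp [WittFil.zmon, Units.coe_prod, hu]

variable [IsDomain A]

/-- If a power of `z` is divisible in `A` by every prime `x i`, then `z` lies in `(∏ x) A`. -/
theorem exists_eq_prod_mul [UniqueFactorizationMonoid A] (p : ℕ) [CharP A p]
    (x : Fin r → A) (hx : ∀ i, Prime (x i)) (hxa : ∀ i j, Associated (x i) (x j) → i = j)
    [IsLocalization.Away (∏ i, x i) B] (z : B) (P : ℕ) (hP : 0 < P) (a : A) (k : Fin r → ℕ)
    (hk : ∀ i, 0 < k i) (h : z ^ P = algebraMap A B (a * ∏ i, x i ^ k i)) :
    ∃ b : A, z = algebraMap A B ((∏ i, x i) * b) := by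
  classical
  have hM : Submonoid.powers (∏ i, x i) ≤ nonZeroDivisors A :=
    powers_le_nonZeroDivisors_of_noZeroDivisors (Finset.prod_ne_zero_iff.mpr fun i _ => (hx i).ne_zero)
  obtain ⟨-, φ, hint⟩ := exists_embedding p (A := A) (B := B) hM
  obtain ⟨b₀, rfl⟩ := (hint z).mp <| IsIntegral.of_pow hP <| by
    rw [← map_pow, h, AlgHom.commutes]; exact isIntegral_algebraMap
  rw [← map_pow] at h
  have h' : b₀ ^ P = a * ∏ i, x i ^ k i := IsLocalization.injective B hM h
  have hdvd : ∀ i, x i ∣ b₀ := fun i => (hx i).dvd_of_dvd_pow <| by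
    rw [h']
    exact ((dvd_pow_self (x i) (hk i).ne').trans (Finset.dvd_prod_of_mem (fun j => x j ^ k j) (Finset.mem_univ i))).mul_left a
  have : ∀ s : Finset (Fin r), ∏ i ∈ s, x i ∣ b₀ := by
    intro s
    induction s using Finset.induction with
    | empty => simp
    | insert i s hi ih =>
      obtain ⟨c, rfl⟩ := ih
      rw [Finset.prod_insert hi, mul_comm]
      refine mul_dvd_mul_left _ ?_
      refine ((hx i).dvd_or_dvd (hdvd i)).resolve_left fun hd => ?_
      obtain ⟨j, hj, hdj⟩ := (hx i).exists_mem_finset_dvd hd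
      exact hi (hxa i j ((hx i).irreducible.associated_of_dvd (hx j).irreducible hdj) ▸ hj)
  replace this := this Finset.univ
  obtain ⟨b, rfl⟩ := this
  exact ⟨b, rfl⟩

end Groth.L14.WittFil
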