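import Groth.Agent.L14.WittFil.Basic
import Mathlib.RingTheory.PowerSeries.Order
import Mathlib.RingTheory.PowerSeries.Inverse
import Mathlib.RingTheory.Ideal.Quotient.Operations

/-!
Graded pieces of the filtration of truncated Witt vectors over a ring of Laurent series.
-/

namespace Groth.L14.WittFil

variable {p : ℕ} [hp : Fact p.Prime]

section Away

variable {A B : Type*} [CommRing A] [IsDomain A] [CommRing B] [Algebra A B] {π : A} [IsLocalization.Away π B]

theorem algebraMap_injective (hπ : Prime π) : Function.Injective (algebraMap A B) :=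
  IsLocalization.injective B (powers_le_nonZeroDivisors_of_noZeroDivisors hπ.ne_zero)

/-- In `A[1/π]`, `π` prime, the elements integral over `A` are those of `A`. -/
theorem mem_range_of_isIntegral (hπ : Prime π) {b : B} (hb : IsIntegral A b) : b ∈ (algebraMap A B).range := by
  obtain ⟨⟨a, ⟨_, k, rfl⟩⟩, hk⟩ := IsLocalization.surj (Submonoid.powers π) b
  simp only [map_pow] at hk
  induction k generalizing a with
  | zero => exact ⟨a, by simpa using hk.symm⟩
  | succ k ih =>
    obtain ⟨P, hP, hPb⟩ := hb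
    -- the equation shows that a power of `a` is divisible by `π`
    have hroot : Polynomial.eval₂ (algebraMap A B) (algebraMap A B a) (P.scaleRoots (π ^ (k + 1))) = 0 := by
      rw [← hk, mul_comm, ← map_pow]
      exact Polynomial.scaleRoots_eval₂_eq_zero _ hPb
    rw [Polynomial.eval₂_at_apply, map_eq_zero_iff _ (algebraMap_injective hπ)] at hroot
    have hsum := hroot
    rw [Polynomial.eval_eq_sum_range, Polynomial.natDegree_scaleRoots, Finset.sum_range_succ] at hsum
    have hlead : (P.scaleRoots (π ^ (k + 1))).coeff P.natDegree = 1 := by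
      simp [Polynomial.coeff_scaleRoots, hP.coeff_natDegree]
    rw [hlead, one_mul] at hsum
    have hdvd : π ∣ a ^ P.natDegree := by
      rw [eq_neg_of_add_eq_zero_right hsum, dvd_neg]
      refine Finset.dvd_sum fun i hi => ?_
      rw [Polynomial.coeff_scaleRoots]
      refine dvd_mul_of_dvd_left (dvd_mul_of_dvd_right ?_ _) _
      exact dvd_trans (dvd_pow_self π (Nat.succ_ne_zero k)) (dvd_pow_self _ (by
        have := Finset.mem_range.mp hi; omega))
    obtain ⟨a', rfl⟩ := hπ.dvd_of_dvd_pow hdvd
    refine ih a' ?_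
    have hu : IsUnit (algebraMap A B π) := IsLocalization.Away.algebraMap_isUnit π
    rw [map_mul, pow_succ, ← mul_assoc, mul_comm (algebraMap A B π)] at hk
    exact hu.mul_right_cancel hk

theorem isIntegral_iff_mem_range (hπ : Prime π) {b : B} : IsIntegral A b ↔ b ∈ (algebraMap A B).range :=
  ⟨mem_range_of_isIntegral hπ, fun ⟨_, ha⟩ => ha ▸ isIntegral_algebraMap⟩

end Away

/-- The data of a graded piece: `A[1/π]`, `π` prime, with representatives `ι : S → A` of `A/π`. -/
theorem gr_bijective {S A B : Type*} [CommRing S] [CommRing A] [IsDomain A] [CharP A p] [CommRing B] [Algebra A B]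
    [Algebra S B] {π : A} [IsLocalization.Away π B] (hπ : Prime π) (ι : S →+* A)
    (hι : ∀ s, algebraMap S B s = algebraMap A B (ι s))
    (hsurj : ∀ a, ∃ s, π ∣ a - ι s) (hinj : ∀ s, π ∣ ι s → s = 0)
    (hord : ∀ g : A, g ≠ 0 → ∃ e g', g = π ^ e * g' ∧ ¬ π ∣ g')
    (u : Bˣ) (hu : (u : B) = algebraMap A B π) (m s : ℕ) (hs : s < m) (i : ℤ) (hsi : s = 0 ∨ ¬ ((p : ℤ) ∣ i)) :
    (∀ c : WittVector p S,
        WittFil.vShiftTeich p m s ((u ^ i : Bˣ) : B) c ∈
          WittFil.fil p m (A := A) ((u ^ (-((p : ℤ) ^ (m - 1 - s) * i)) : Bˣ) : B)) ∧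
      (∀ c : WittVector p S,
        WittFil.vShiftTeich p m s ((u ^ i : Bˣ) : B) c ∈
            WittFil.fil p m (A := A) ((u ^ (-((p : ℤ) ^ (m - 1 - s) * i) - 1) : Bˣ) : B) ↔
          WittVector.truncate (m - s) c = 0) ∧
      (∀ y ∈ WittFil.fil p m (A := A) ((u ^ (-((p : ℤ) ^ (m - 1 - s) * i)) : Bˣ) : B),
        ∃ c : WittVector p S,
          y - WittFil.vShiftTeich p m s ((u ^ i : Bˣ) : B) c ∈
            WittFil.fil p m (A := A) ((u ^ (-((p : ℤ) ^ (m - 1 - s) * i) - 1) : Bˣ) : B)) := by
  classical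
  have hM : Submonoid.powers π ≤ nonZeroDivisors A := powers_le_nonZeroDivisors_of_noZeroDivisors hπ.ne_zero
  have : IsDomain B := IsLocalization.isDomain_of_le_nonZeroDivisors B hM
  have hAB : Function.Injective (algebraMap A B) := algebraMap_injective hπ
  have : CharP B p := charP_of_injective_algebraMap hAB p
  let L := AlgebraicClosure (FractionRing B)
  have hBL : Function.Injective (algebraMap B L) := by
    rw [IsScalarTower.algebraMap_eq B (FractionRing B) L]
    exact (algebraMap (FractionRing B) L).injective.comp (IsFractionRing.injective B (FractionRing B))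
  have : CharP L p := charP_of_injective_algebraMap hBL p
  let φ : B →ₐ[A] L := IsScalarTower.toAlgHom A B L
  have hint : ∀ b : B, IsIntegral A (φ b) ↔ b ∈ (algebraMap A B).range := fun b => by
    rw [← isIntegral_iff_mem_range hπ, isIntegral_algHom_iff φ hBL]
  set N : ℤ := (p : ℤ) ^ (m - 1 - s) * i with hN
  -- coordinates of the shifted vector
  have hco : ∀ (c : WittVector p S) (j : Fin m),
      (WittFil.vShiftTeich p m s ((u ^ i : Bˣ) : B) c).coeff j =
        if (j : ℕ) < s then 0 else
          algebraMap A B (ι (c.coeff ((j : ℕ) - s))) * ((u ^ (i * (p : ℤ) ^ ((j : ℕ) - s)) : Bˣ) : B) := by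
    intro c j
    rw [WittFil.vShiftTeich, WittVector.coeff_truncate]
    split_ifs with hj
    · exact WittVector.iterate_verschiebung_coeff_eq_zero _ hj
    · conv_lhs => rw [show (j : ℕ) = ((j : ℕ) - s) + s by omega, WittVector.iterate_verschiebung_coeff]
      rw [mul_comm, coeff_teichmuller_mul, WittVector.map_coeff, hι, mul_comm, ← Units.val_pow_eq_pow_val,
        ← zpow_natCast, ← zpow_mul, Nat.cast_pow]
  -- value of the defining expression on it
  have hval : ∀ (c : WittVector p S) (j : Fin m) (e : ℤ), s ≤ (j : ℕ) →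
      (WittFil.vShiftTeich p m s ((u ^ i : Bˣ) : B) c).coeff j ^ p ^ (m - 1 - (j : ℕ)) * ((u ^ e : Bˣ) : B) =
        algebraMap A B (ι (c.coeff ((j : ℕ) - s)) ^ p ^ (m - 1 - (j : ℕ))) * ((u ^ (N + e) : Bˣ) : B) := by
    intro c j e hj
    rw [hco, if_neg (not_lt.mpr hj), mul_pow, ← map_pow, mul_assoc, ← Units.val_pow_eq_pow_val, ← Units.val_mul]
    congr 3
    rw [zpow_add, ← zpow_natCast, ← zpow_mul]
    congr 2
    rw [hN, Nat.cast_pow, mul_assoc, ← pow_add, mul_comm]
    congr 2
    have := j.2
    omega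
  have hzero : ∀ (c : WittVector p S) (j : Fin m) (e : ℤ), (j : ℕ) < s →
      (WittFil.vShiftTeich p m s ((u ^ i : Bˣ) : B) c).coeff j ^ p ^ (m - 1 - (j : ℕ)) * ((u ^ e : Bˣ) : B) = 0 := by
    intro c j e hj
    rw [hco, if_pos hj, zero_pow (pow_pos hp.out.pos _).ne', zero_mul]
  have h1 : ∀ c : WittVector p S, WittFil.vShiftTeich p m s ((u ^ i : Bˣ) : B) c ∈
      WittFil.fil p m (A := A) ((u ^ (-N) : Bˣ) : B) := by
    intro c j
    by_cases hj : (j : ℕ) < s
    · exact ⟨0, by rw [map_zero, hzero c j _ hj]⟩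
    · exact ⟨ι (c.coeff ((j : ℕ) - s)) ^ p ^ (m - 1 - (j : ℕ)), by
        rw [hval c j _ (not_lt.mp hj), add_neg_cancel, zpow_zero, Units.val_one, mul_one]⟩
  refine ⟨h1, fun c => ⟨fun h => ?_, fun h => ?_⟩, fun y hy => ?_⟩
  · refine TruncatedWittVector.ext fun j => ?_
    rw [WittVector.coeff_truncate, TruncatedWittVector.coeff_zero]
    have hj := j.2
    obtain ⟨a, ha⟩ := h ⟨s + j, by omega⟩
    rw [hval c ⟨s + j, by omega⟩ _ (Nat.le_add_right _ _), show N + (-N - 1) = -1 by ring, zpow_neg, zpow_one] at ha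
    simp only [Nat.add_sub_cancel_left] at ha
    have := congrArg (· * (u : B)) ha
    simp only [mul_assoc, Units.inv_mul, mul_one] at this
    simp only [hu, ← map_mul] at this
    exact hinj _ (hπ.dvd_of_dvd_pow ⟨a, by rw [← hAB this, mul_comm]⟩)
  · intro j
    by_cases hj : (j : ℕ) < s
    · exact ⟨0, by rw [map_zero, hzero c j _ hj]⟩
    · refine ⟨0, ?_⟩
      have := congrArg (fun v => TruncatedWittVector.coeff (⟨(j : ℕ) - s, by have := j.2; omega⟩ : Fin (m - s)) v) h
      simp only [WittVector.coeff_truncate, TruncatedWittVector.coeff_zero] at this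
      rw [hval c j _ (not_lt.mp hj), this]
      simp [hp.out.ne_zero]
  · -- surjectivity
    have hg : ∀ j : Fin m, s ≤ (j : ℕ) → ∃ g : A,
        TruncatedWittVector.coeff j y * ((u ^ (-(i * (p : ℤ) ^ ((j : ℕ) - s))) : Bˣ) : B) = algebraMap A B g := by
      intro j hj
      obtain ⟨a, ha⟩ := hy j
      refine (mem_range_of_isIntegral hπ (.of_pow (pow_pos hp.out.pos (m - 1 - (j : ℕ))) ?_)).imp fun g hg => hg.symm
      rw [mul_pow, ← Units.val_pow_eq_pow_val]
      have e : ((u ^ (-(i * (p : ℤ) ^ ((j : ℕ) - s)))) ^ p ^ (m - 1 - (j : ℕ)) : Bˣ) = u ^ (-N) := by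
        rw [← zpow_natCast, ← zpow_mul, hN]
        congr 1
        rw [Nat.cast_pow, neg_mul, mul_assoc, ← pow_add, mul_comm]
        congr 3
        have := j.2
        omega
      rw [e, ← ha]
      exact isIntegral_algebraMap
    choose g hg using hg
    choose r hr using hsurj
    refine ⟨WittVector.mk p fun l => if h : s + l < m then r (g ⟨s + l, h⟩ (Nat.le_add_right _ _)) else 0, ?_⟩
    set c : WittVector p S := WittVector.mk p fun l => if h : s + l < m then r (g ⟨s + l, h⟩ (Nat.le_add_right _ _)) else 0 with hc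
    set w := WittFil.vShiftTeich p m s ((u ^ i : Bˣ) : B) c with hw
    have hcj : ∀ j : Fin m, (hj : s ≤ (j : ℕ)) → c.coeff ((j : ℕ) - s) = r (g j hj) := by
      intro j hj
      have hlt : s + ((j : ℕ) - s) < m := by have := j.2; omega
      simp only [hc, WittVector.coeff_mk, dif_pos hlt]
      congr 2
      exact Fin.ext (by simp; omega)
    obtain ⟨d, hd⟩ := IsAlgClosed.exists_pow_nat_eq (φ ((u ^ (-N) : Bˣ) : B)) (pow_pos hp.out.pos (m - 1))
    let O := integralClosure A L
    let I : Ideal O := (Ideal.span {algebraMap A O π}).radical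
    have hy' := hy
    have hw' : w ∈ WittFil.fil p m (A := A) ((u ^ (-N) : Bˣ) : B) := h1 c
    set Y := twist φ hint hd hy' with hY
    set W := twist φ hint hd hw' with hW
    -- congruence of the coordinates
    have hYj : ∀ l, (h : l < m) → ((Y.coeff l : O) : L) = d ^ p ^ l * φ (y.coeff ⟨l, h⟩) := fun l h => by
      simp [hY, twist, h]
    have hWj : ∀ l, (h : l < m) → ((W.coeff l : O) : L) = d ^ p ^ l * φ (w.coeff ⟨l, h⟩) := fun l h => by
      simp [hW, twist, h]
    have hmem : ∀ l, Y.coeff l - W.coeff l ∈ I := by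
      intro l
      by_cases hl : l < m
      swap
      · simp [hY, hW, twist, hl]
      set j : Fin m := ⟨l, hl⟩ with hjdef
      have hjl : (j : ℕ) + (m - 1 - (j : ℕ)) = m - 1 := by omega
      by_cases hls : l < s
      · have hw0 : W.coeff l = 0 := Subtype.ext (by
          rw [hWj l hl, hw, hco, if_pos (show ((⟨l, hl⟩ : Fin m) : ℕ) < s from hls), map_zero, mul_zero]
          rfl)
        rw [hw0, sub_zero]
        obtain ⟨a, ha⟩ := hy j
        refine ⟨p ^ (m - 1 - l), ?_⟩
        have hYa : Y.coeff l ^ p ^ (m - 1 - l) = algebraMap A O a := Subtype.ext (by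
          rw [SubmonoidClass.coe_pow, hYj l hl, mul_pow, ← pow_mul, ← pow_add,
            show l + (m - 1 - l) = m - 1 from hjl, hd, ← map_pow, ← map_mul, mul_comm, ← ha, AlgHom.commutes]
          rfl)
        rw [hYa, Ideal.mem_span_singleton]
        refine map_dvd _ ?_
        by_contra hna
        -- the order of the coordinate would make `p` divide `i`
        obtain ⟨⟨g₀, ⟨_, e₀, rfl⟩⟩, he₀⟩ := IsLocalization.surj (Submonoid.powers π) (y.coeff j)
        simp only [map_pow, ← hu] at he₀
        have hg0 : g₀ ≠ 0 := by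
          intro e
          rw [e, map_zero] at he₀
          have hy0 : y.coeff j = 0 := (mul_eq_zero.mp he₀).resolve_right (pow_ne_zero _ u.ne_zero)
          rw [hy0, zero_pow (pow_pos hp.out.pos _).ne', zero_mul, map_eq_zero_iff _ hAB] at ha
          exact hna (ha ▸ dvd_zero π)
        obtain ⟨e, g', hg', hng⟩ := hord g₀ hg0
        set P := p ^ (m - 1 - l) with hP
        have hyv : y.coeff j = algebraMap A B g' * ((u ^ ((e : ℤ) - e₀) : Bˣ) : B) := by
          rw [zpow_sub, Units.val_mul, zpow_natCast, zpow_natCast, Units.val_pow_eq_pow_val, ← mul_assoc,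
            Units.eq_mul_inv_iff_mul_eq, Units.val_pow_eq_pow_val, he₀, hg', map_mul, map_pow, ← hu, mul_comm]
        rw [hyv, mul_pow, ← map_pow, mul_assoc, ← Units.val_pow_eq_pow_val, ← Units.val_mul, ← zpow_natCast,
          ← zpow_mul, ← zpow_add] at ha
        set E : ℤ := ((e : ℤ) - e₀) * (P : ℕ) + -N with hE
        have hE0 : E = 0 := by
          rcases lt_trichotomy E 0 with hlt | h0 | hgt
          · obtain ⟨t, ht⟩ : ∃ t : ℕ, E = -((t : ℤ) + 1) := ⟨(-E - 1).toNat, by omega⟩
            exfalso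
            rw [ht, zpow_neg, ← Nat.cast_succ, zpow_natCast, Units.eq_mul_inv_iff_mul_eq, Units.val_pow_eq_pow_val,
              hu, ← map_pow, ← map_mul] at ha
            refine hng (hπ.dvd_of_dvd_pow (n := P) ?_)
            rw [← hAB ha]
            exact dvd_mul_of_dvd_right (dvd_pow_self π (Nat.succ_ne_zero _)) _
          · exact h0
          · obtain ⟨t, ht⟩ : ∃ t : ℕ, E = (t : ℤ) + 1 := ⟨(E - 1).toNat, by omega⟩
            exfalso
            rw [ht, ← Nat.cast_succ, zpow_natCast, Units.val_pow_eq_pow_val, hu, ← map_pow, ← map_mul] at ha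
            refine hna ?_
            rw [hAB ha]
            exact dvd_mul_of_dvd_right (dvd_pow_self π (Nat.succ_ne_zero _)) _
        rcases hsi with hs0 | hpi
        · omega
        · apply hpi
          have hls' : m - 1 - l = (m - 1 - s) + (s - l) := by omega
          rw [hE, hN, hP, hls', Nat.cast_pow, pow_add] at hE0
          have hpp : (p : ℤ) ^ (m - 1 - s) ≠ 0 := pow_ne_zero _ (by exact_mod_cast hp.out.ne_zero)
          have hi' : i = ((e : ℤ) - e₀) * (p : ℤ) ^ (s - l) := mul_left_cancel₀ hpp (by linear_combination -hE0)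
          rw [hi']
          exact dvd_mul_of_dvd_right (dvd_pow_self _ (by omega)) _
      · -- the congruence at `j ≥ s`
        have hj : s ≤ (j : ℕ) := not_lt.mp hls
        set e' : ℤ := i * (p : ℤ) ^ ((j : ℕ) - s) with he'
        let v : O := ⟨d ^ p ^ l * φ ((u ^ e' : Bˣ) : B), by
          refine IsIntegral.of_pow (pow_pos hp.out.pos (m - 1 - l)) ?_
          rw [mul_pow, ← pow_mul, ← pow_add, show l + (m - 1 - l) = m - 1 from hjl, hd, ← map_pow, ← map_mul,
            ← Units.val_pow_eq_pow_val, ← Units.val_mul]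
          rw [show u ^ (-N) * (u ^ e') ^ p ^ (m - 1 - l) = 1 by
            rw [← zpow_natCast, ← zpow_mul, ← zpow_add, he', hN, Nat.cast_pow, mul_assoc, ← pow_add,
              show (j : ℕ) - s + (m - 1 - l) = m - 1 - s by have := j.2; simp [hjdef]; omega]
            simp [mul_comm]]
          rw [Units.val_one, map_one]
          exact isIntegral_one⟩
        have hdiff : Y.coeff l - W.coeff l = v * algebraMap A O (g j hj - ι (r (g j hj))) := by
          refine Subtype.ext ?_
          have hyj : y.coeff j = algebraMap A B (g j hj) * ((u ^ e' : Bˣ) : B) := by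
            rw [← hg j hj, mul_assoc, ← Units.val_mul, zpow_neg, inv_mul_cancel, Units.val_one, mul_one]
          have hwj : w.coeff j = algebraMap A B (ι (r (g j hj))) * ((u ^ e' : Bˣ) : B) := by
            rw [hw, hco, if_neg hls, hcj j hj]
          show ((Y.coeff l : O) : L) - ((W.coeff l : O) : L) = (v : L) * algebraMap A L _
          rw [hYj l hl, hWj l hl, hyj, hwj]
          simp only [v, map_mul, map_sub, AlgHom.commutes]
          ring
        rw [hdiff]
        refine Ideal.le_radical (Ideal.mul_mem_left _ _ (Ideal.mem_span_singleton.mpr (map_dvd _ ?_)))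
        exact hr _
    have hmap : ∀ l, Ideal.Quotient.mk I (Y.coeff l) = Ideal.Quotient.mk I (W.coeff l) := fun l =>
      Ideal.Quotient.eq.mpr (hmem l)
    have hsub : ∀ l, (Y - W).coeff l ∈ I := by
      intro l
      have : WittVector.map (Ideal.Quotient.mk I) (Y - W) = 0 := by
        rw [map_sub, sub_eq_zero]
        ext l
        simp [hmap]
      have := congrArg (fun v => WittVector.coeff v l) this
      simp only [WittVector.map_coeff, WittVector.zero_coeff] at this
      exact Ideal.Quotient.eq_zero_iff_mem.mp this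
    intro j
    obtain ⟨a, ha⟩ := sub_mem φ hint hy hw' j
    have hYW : ((Y - W).coeff (j : ℕ) : L) = d ^ p ^ (j : ℕ) * φ ((y - w).coeff j) := by
      have := congrArg (fun v => WittVector.coeff v (j : ℕ))
        (show WittVector.map ((integralClosure A L).val : integralClosure A L →+* L) (Y - W) =
          WittVector.teichmuller p d * WittVector.map (φ : B →+* L) (y.out - w.out) by
          rw [map_sub, map_sub, map_twist, map_twist, mul_sub])
      simp only [coeff_teichmuller_mul, WittVector.map_coeff] at this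
      refine this.trans ?_
      show _ = d ^ p ^ (j : ℕ) * φ (TruncatedWittVector.coeff j (WittVector.truncateFun m (y.out - w.out)))
      rw [WittVector.coeff_truncateFun]
      rfl
    have haI : algebraMap A O a ∈ I := by
      have hpow : (Y - W).coeff (j : ℕ) ^ p ^ (m - 1 - (j : ℕ)) = algebraMap A O a := Subtype.ext (by
        rw [SubmonoidClass.coe_pow, hYW, mul_pow, ← pow_mul, ← pow_add,
          show (j : ℕ) + (m - 1 - (j : ℕ)) = m - 1 by have := j.2; omega, hd, ← map_pow, ← map_mul, mul_comm,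
          ← ha, AlgHom.commutes]
        rfl)
      rw [← hpow]
      exact Ideal.pow_mem_of_mem _ (hsub _) _ (pow_pos hp.out.pos _)
    obtain ⟨n, hn⟩ := haI
    obtain ⟨o, ho⟩ := Ideal.mem_span_singleton'.mp hn
    have hdvd : π ∣ a := by
      refine hπ.dvd_of_dvd_pow (n := n) ?_
      have hoL : (o : L) * algebraMap A L π = algebraMap A L (a ^ n) := by
        have := congrArg (Subtype.val) ho
        simpa [map_pow] using this
      obtain ⟨b, hb⟩ : algebraMap A B (a ^ n) * ((u⁻¹ : Bˣ) : B) ∈ (algebraMap A B).range := by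
        rw [← hint]
        have : φ (algebraMap A B (a ^ n) * ((u⁻¹ : Bˣ) : B)) = o := by
          rw [map_mul, AlgHom.commutes, ← hoL, ← AlgHom.commutes φ π, ← hu, mul_assoc, ← map_mul, Units.mul_inv,
            map_one, mul_one]
        rw [this]
        exact o.2
      refine ⟨b, hAB ?_⟩
      rw [map_mul, hb, ← hu, mul_left_comm, Units.mul_inv, mul_one]
    obtain ⟨a', rfl⟩ := hdvd
    refine ⟨a', ?_⟩
    rw [show ((u ^ (-N - 1) : Bˣ) : B) = ((u ^ (-N) : Bˣ) : B) * ((u⁻¹ : Bˣ) : B) by
      rw [← Units.val_mul, zpow_sub, zpow_one], ← mul_assoc, ← ha, map_mul, ← hu, mul_right_comm, Units.mul_inv,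
      one_mul]

/-- The power series case. -/
theorem gr_bijective_powerSeries {S B : Type*} [CommRing S] [IsDomain S] [CharP S p] [CommRing B]
    [Algebra (PowerSeries S) B] [Algebra S B] [IsScalarTower S (PowerSeries S) B]
    [IsLocalization.Away (PowerSeries.X : PowerSeries S) B]
    (u : Bˣ) (hu : (u : B) = algebraMap (PowerSeries S) B PowerSeries.X) (m s : ℕ) (hs : s < m)
    (i : ℤ) (hsi : s = 0 ∨ ¬ ((p : ℤ) ∣ i)) :
    (∀ c : WittVector p S,
        WittFil.vShiftTeich p m s ((u ^ i : Bˣ) : B) c ∈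
          WittFil.fil p m (A := PowerSeries S) ((u ^ (-((p : ℤ) ^ (m - 1 - s) * i)) : Bˣ) : B)) ∧
      (∀ c : WittVector p S,
        WittFil.vShiftTeich p m s ((u ^ i : Bˣ) : B) c ∈
            WittFil.fil p m (A := PowerSeries S) ((u ^ (-((p : ℤ) ^ (m - 1 - s) * i) - 1) : Bˣ) : B) ↔
          WittVector.truncate (m - s) c = 0) ∧
      (∀ y ∈ WittFil.fil p m (A := PowerSeries S) ((u ^ (-((p : ℤ) ^ (m - 1 - s) * i)) : Bˣ) : B),
        ∃ c : WittVector p S,
          y - WittFil.vShiftTeich p m s ((u ^ i : Bˣ) : B) c ∈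
            WittFil.fil p m (A := PowerSeries S)
              ((u ^ (-((p : ℤ) ^ (m - 1 - s) * i) - 1) : Bˣ) : B)) := by
  have : CharP (PowerSeries S) p := charP_of_injective_ringHom (PowerSeries.C_injective (R := S)) p
  refine gr_bijective (π := (PowerSeries.X : PowerSeries S)) PowerSeries.X_prime (PowerSeries.C (R := S))
    (fun t => ?_) (fun a => ⟨PowerSeries.constantCoeff a, ?_⟩) (fun t ht => ?_) (fun g hg => ?_) u hu m s hs i hsi
  · rw [IsScalarTower.algebraMap_apply S (PowerSeries S) B]; rfl
  · rw [PowerSeries.X_dvd_iff]; simp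
  · rw [PowerSeries.X_dvd_iff] at ht; simpa using ht
  · refine ⟨g.order.toNat, PowerSeries.divXPowOrder g, (PowerSeries.X_pow_order_mul_divXPowOrder).symm, ?_⟩
    rw [PowerSeries.X_dvd_iff]
    exact (PowerSeries.constantCoeff_divXPowOrder_eq_zero_iff).not.mpr hg

end Groth.L14.WittFil
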