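import Mathlib.RingTheory.WittVector.Teichmuller
import Mathlib.RingTheory.WittVector.Truncated
import Mathlib.RingTheory.WittVector.WittPolynomial
import Mathlib.Algebra.MvPolynomial.Eval
import Mathlib.Algebra.Algebra.Rat
import Mathlib.Algebra.CharP.Invertible
import Mathlib.Tactic.Ring

/-!
Multiplication by a Teichmüller representative in any characteristic.
-/

namespace Groth.L14.WittFilTeich

variable {p : ℕ} [hp : Fact p.Prime] {R : Type*} [CommRing R]

theorem of_invertible [Invertible (p : R)] (X : WittVector p R) (c : R) :
    WittVector.teichmuller p c * X = WittVector.mk p fun i => c ^ p ^ i * X.coeff i := by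
  refine (WittVector.ghostMap.bijective_of_invertible p R).1 (funext fun n => ?_)
  simp only [map_mul, Pi.mul_apply, WittVector.ghostMap_apply, WittVector.ghostComponent_teichmuller]
  simp only [WittVector.ghostComponent_apply, aeval_wittPolynomial, Finset.mul_sum]
  refine Finset.sum_congr rfl fun i hi => ?_
  rw [Finset.mem_range] at hi
  simp only [WittVector.coeff_mk, mul_pow, ← pow_mul, ← pow_add, show i + (n - i) = n by omega]
  ring

open MvPolynomial in
theorem coeff_mul (X : WittVector p R) (c : R) (i : ℕ) :
    (WittVector.teichmuller p c * X).coeff i = c ^ p ^ i * X.coeff i := by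
  let P := MvPolynomial (Option ℕ) ℤ
  let Q := MvPolynomial (Option ℕ) ℚ
  let ι : P →+* Q := MvPolynomial.map (Int.castRingHom ℚ)
  have hι : Function.Injective ι := MvPolynomial.map_injective _ Int.cast_injective
  let c0 : P := MvPolynomial.X none
  let X0 : WittVector p P := WittVector.mk p fun j => MvPolynomial.X (some j)
  haveI : Invertible (p : ℚ) := invertibleOfNonzero (by exact_mod_cast hp.out.ne_zero)
  haveI : Invertible (p : Q) := (Invertible.map (algebraMap ℚ Q) (p : ℚ)).copy _ (by simp)
  have h0 : WittVector.teichmuller p c0 * X0 = WittVector.mk p fun j => c0 ^ p ^ j * X0.coeff j := by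
    refine WittVector.map_injective ι hι ?_
    rw [map_mul, WittVector.map_teichmuller, of_invertible]
    ext j
    simp [WittVector.map_coeff]
  let g : P →+* R := MvPolynomial.eval₂Hom (Int.castRingHom R) fun o => o.elim c X.coeff
  have hg : WittVector.map g X0 = X := by ext j; simp [g, X0, P]
  have h := congrArg (fun Y => (WittVector.map g Y).coeff i) h0
  simp only [map_mul, WittVector.map_teichmuller, hg, WittVector.map_coeff, WittVector.coeff_mk] at h
  simpa [g, X0, c0, P] using h

end Groth.L14.WittFilTeich
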